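import Cfsg.Agent.KFacts.ChevTwoAut

/-!
# Automorphisms trivial on a root group, characteristic two, with a diagram symmetry (S3010, helper253)

* `diagSub` : the automorphisms multiplying every root group by a scalar;
* `frame_dom`, `frame` : an automorphism trivial on a root group is inner times a pure diagram automorphism;
* `dich` : the dichotomy;
* `cube` : `δ ^ m` is inner for `δ ∈ Inn ⊔ diagSub`;
* `graph_root`, `graph_sq` : the graph automorphism on all root groups.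
-/

set_option autoImplicit false
set_option linter.unusedSectionVars false

namespace Cfsg.Agent.H253.SK.Dich

open CoxeterSystem Cfsg.Agent.ChevalleyStructure.CoxeterGeom Cfsg.Agent.Tits.Roots Cfsg.Agent.Tits.Core
  Cfsg.Agent.Tits.Exchange Cfsg.Agent.Nodes.Reps Cfsg.Agent.Nodes.BNOf Cfsg.Agent.Nodes.StabComb
  Cfsg.Agent.Nodes.Bruhat Cfsg.Agent.Nodes.OppDec Cfsg.Agent.Nodes.LeviDec Cfsg.Agent.Nodes.NormalForm
  Cfsg.Agent.Nodes.Coroot Cfsg.Agent.Nodes.PosPair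
  Cfsg.Agent.KFacts.RgdOpp Cfsg.Agent.KFacts.RgdAut Cfsg.Agent.KFacts.RgdDiag Cfsg.Agent.KFacts.RgdRigid
  Cfsg.Agent.KFacts.RgdCent Cfsg.Agent.KFacts.RgdField Cfsg.Agent.KFacts.RgdTau Cfsg.Agent.KFacts.RgdSys
  Cfsg.Agent.KFacts.RgdTI Cfsg.Agent.KFacts.RgdAutFacts Cfsg.Agent.KFacts.ChevTwo Cfsg.Agent.KFacts.ChevTwoAut

variable {I W Y : Type*} [Fintype I] [DecidableEq I] [Group W] [Group Y] {M : CoxeterMatrix I}
  {cs : CoxeterSystem M W} {A : I → I → ℤ} {h : IsCartan M A} {p : ℕ} {T : Subgroup Y} {n : I → Y}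
  {X : (I → ℤ) → Subgroup Y}
variable {K : Type*} [Field K] {e : (I → ℤ) → K → Y}

/-- the automorphisms multiplying every root group by a scalar -/
def diagSub (cs : CoxeterSystem M W) (h : IsCartan M A) (e : (I → ℤ) → K → Y) : Subgroup (MulAut Y) where
  carrier := {α | ∀ x, IsRoot cs h x → ∃ c : Kˣ, ∀ u, α (e x u) = e x (c * u)}
  one_mem' x _ := ⟨1, fun u => by rw [Units.val_one, one_mul]; rfl⟩
  mul_mem' := by
    intro α β hα hβ x hx
    obtain ⟨c, hc⟩ := hα x hx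
    obtain ⟨d, hd⟩ := hβ x hx
    refine ⟨c * d, fun u => ?_⟩
    rw [MulAut.mul_apply, hd, hc, Units.val_mul, mul_assoc]
  inv_mem' := by
    intro α hα x hx
    obtain ⟨c, hc⟩ := hα x hx
    refine ⟨c⁻¹, fun u => ?_⟩
    apply α.injective
    rw [MulAut.apply_inv_self, hc, Units.mul_inv_cancel_left]

theorem mem_diagSub {α : MulAut Y} :
    α ∈ diagSub cs h e ↔ ∀ x, IsRoot cs h x → ∃ c : Kˣ, ∀ u, α (e x u) = e x (c * u) := Iff.rfl

theorem aut_conj (β : MulAut Y) (k : Y) : β * MulAut.conj k = MulAut.conj (β k) * β := by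
  ext y
  simp only [MulAut.mul_apply, MulAut.conj_apply, map_mul, map_inv]

/-- inner-diagonal automorphisms -/
def innDiag (cs : CoxeterSystem M W) (h : IsCartan M A) (e : (I → ℤ) → K → Y) : Subgroup (MulAut Y) where
  carrier := {α | ∃ k : Y, ∃ d ∈ diagSub cs h e, α = MulAut.conj k * d}
  one_mem' := ⟨1, 1, one_mem _, by rw [map_one, one_mul]⟩
  mul_mem' := by
    rintro _ _ ⟨k, d, hd, rfl⟩ ⟨k', d', hd', rfl⟩
    refine ⟨k * d k', d * d', mul_mem hd hd', ?_⟩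
    rw [map_mul, mul_assoc (MulAut.conj k), ← mul_assoc d, aut_conj]
    simp only [mul_assoc]
  inv_mem' := by
    rintro _ ⟨k, d, hd, rfl⟩
    refine ⟨d⁻¹ k⁻¹, d⁻¹, inv_mem hd, ?_⟩
    rw [mul_inv_rev, ← map_inv, aut_conj]

theorem mem_innDiag {α : MulAut Y} : α ∈ innDiag cs h e ↔ ∃ k : Y, ∃ d ∈ diagSub cs h e, α = MulAut.conj k * d :=
  Iff.rfl

theorem conj_mem (k : Y) : MulAut.conj k ∈ innDiag cs h e := mem_innDiag.2 ⟨k, 1, one_mem _, (mul_one _).symm⟩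

theorem diagSub_le : diagSub cs h e ≤ innDiag cs h e := fun d hd => mem_innDiag.2 ⟨1, d, hd, by rw [map_one, one_mul]⟩

/-- an automorphism trivial on the highest root group: inner times a pure diagram automorphism -/
theorem frame_dom [Finite W] [Finite Y] [Finite K] [Nonempty I] {R : RGD cs h 2 T n X} (S : Sys R e)
    (hG1 : RGD.Sup X {x | IsRoot cs h x} = ⊤) (hN : NoCent cs h T X)
    (hconn : ∀ J : Set I, J.Nonempty → J ≠ Set.univ → ∃ a ∈ J, ∃ b, b ∉ J ∧ M a b ≠ 2)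
    (hA : ∀ σ : Equiv.Perm I, (∀ i j, M (σ i) (σ j) = M i j) → ∀ i j, A (σ i) (σ j) = A i j)
    {a : I → ℤ} (ha : IsRoot cs h a) (hdom : ∀ i, 0 ≤ cpr cs h (sr i) a)
    {α : MulAut Y} (hα : ∀ z ∈ X a, α z = z) : ∃ (g : Y) (σ : Equiv.Perm I), (∀ i j, M (σ i) (σ j) = M i j) ∧
      ∀ x, IsRoot cs h x → ∃ c : Kˣ, ∀ u, (MulAut.conj g * α) (e x u) = e (x ∘ σ.symm) (c * u) := by
  have : Fact (Nat.Prime 2) := ⟨Nat.prime_two⟩
  have hG := GG_eq_top (T := T) hG1
  have hPos : RGD.Pos cs h ⊆ Ge cs h a := by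
    intro x hx
    refine ⟨hx.1, ?_⟩
    have h1 : ell cs h ha x = ∑ i, x i * ell cs h ha (sr i) := by
      conv_lhs => rw [eq_sum_sr x]
      rw [map_sum]
      refine Finset.sum_congr rfl fun i _ => ?_
      rw [map_zsmul, smul_eq_mul]
    rw [ell_apply] at h1
    rw [h1]
    exact Finset.sum_nonneg fun i _ => mul_nonneg (hx.2 i) (by rw [ell_apply]; exact hdom i)
  obtain ⟨g, hg, hU, hUN, hβz, σ, D⟩ := frame_of_fix (R := R) hG
    (fun u hu z hz => (S.lr ha).comm' (RGD.Sup_mono hPos hu) hz) hα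
  obtain ⟨β, hβ⟩ : ∃ β, β = MulAut.conj g * α := ⟨_, rfl⟩
  rw [← hβ] at hU hUN hβz D
  have hσ := D.matrix R
  have C := coords S hG1
  have H := coroots S hG1 hN
  obtain ⟨τ, B⟩ := exists_tau R C H hconn D (hA σ hσ)
  have hσa : a ∘ σ.symm = a := by
    by_contra hne
    have ha' : IsRoot cs h (a ∘ σ.symm) := by
      obtain ⟨w, i, rfl⟩ := ha
      rw [← rep_hat hσ (hA σ hσ), sr_comp]
      exact ⟨_, _, rfl⟩
    have h1 := X_inf_X R ha' ha hne
    rw [Subgroup.eq_bot_iff_forall] at h1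
    have h2 : e a 1 ∈ X a := S.mem ha 1
    have h3 : e a 1 ∈ X (a ∘ σ.symm) := by
      have := (Diag.root_comp R D (hA σ hσ) ha (e a 1)).2 h2
      rwa [hβz _ h2] at this
    exact S.data.ne_one ha one_ne_zero (h1 _ ⟨h3, h2⟩)
  have hτ : τ = 1 := by
    obtain ⟨c, hc, e1⟩ := Tau.root R C B ha
    have e' : ∀ b, c * τ b = b := by
      intro b
      have h1 := e1 b
      rw [hβz _ ((S.mem_X a ha _).2 ⟨b, rfl⟩), hσa] at h1
      exact (S.data.injective ha h1).symm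
    have h1 := e' 1
    rw [map_one, mul_one] at h1
    ext b
    have h2 := e' b
    rw [h1, one_mul] at h2
    exact h2
  subst hτ
  refine ⟨g, σ, hσ, fun x hx => ?_⟩
  obtain ⟨c, hc, e1⟩ := Tau.root R C B hx
  exact ⟨Units.mk0 c hc, fun u => by rw [← hβ]; exact e1 u⟩

/-- the same for every root group -/
theorem frame [Finite W] [Finite Y] [Finite K] [Nonempty I] {R : RGD cs h 2 T n X} (S : Sys R e)
    (hG1 : RGD.Sup X {x | IsRoot cs h x} = ⊤) (hN : NoCent cs h T X)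
    (hconn : ∀ J : Set I, J.Nonempty → J ≠ Set.univ → ∃ a ∈ J, ∃ b, b ∉ J ∧ M a b ≠ 2)
    (hA : ∀ σ : Equiv.Perm I, (∀ i j, M (σ i) (σ j) = M i j) → ∀ i j, A (σ i) (σ j) = A i j)
    {a : I → ℤ} (ha : IsRoot cs h a) {α : MulAut Y} (hα : ∀ z ∈ X a, α z = z) :
    ∃ (k g : Y) (σ : Equiv.Perm I) (γ : MulAut Y), (∀ i j, M (σ i) (σ j) = M i j) ∧
      (∀ x, IsRoot cs h x → ∃ c : Kˣ, ∀ u, γ (e x u) = e (x ∘ σ.symm) (c * u)) ∧
      α = MulAut.conj k * γ * MulAut.conj g := by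
  obtain ⟨w, hw⟩ := (S.lr ha).exists_dominant
  obtain ⟨m, hm⟩ := exists_rp cs R.nsys w
  have hX : ∀ z ∈ X (rep cs h w a), m⁻¹ * z * m ∈ X a := by
    intro z hz
    rw [← R.conj_rp hm ha, mem_cj] at hz
    exact hz
  have h1 : ∀ z ∈ X (rep cs h w a), (MulAut.conj m * α * (MulAut.conj m)⁻¹) z = z := by
    intro z hz
    rw [← map_inv]
    show m * α (m⁻¹ * z * m⁻¹⁻¹) * m⁻¹ = z
    rw [inv_inv, hα _ (hX z hz)]
    group
  obtain ⟨g, σ, hσ, h2⟩ := frame_dom S hG1 hN hconn hA (ha.act w) hw h1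
  refine ⟨(g * m)⁻¹, m, σ, _, hσ, h2, ?_⟩
  rw [mul_inv_rev, map_mul, map_inv, map_inv]
  group

/-- **The dichotomy.** -/
theorem dich [Finite W] [Finite Y] [Finite K] [Nonempty I] {R : RGD cs h 2 T n X} (S : Sys R e)
    (hG1 : RGD.Sup X {x | IsRoot cs h x} = ⊤) (hN : NoCent cs h T X)
    (hconn : ∀ J : Set I, J.Nonempty → J ≠ Set.univ → ∃ a ∈ J, ∃ b, b ∉ J ∧ M a b ≠ 2)
    (hA : ∀ σ : Equiv.Perm I, (∀ i j, M (σ i) (σ j) = M i j) → ∀ i j, A (σ i) (σ j) = A i j)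
    {s : Equiv.Perm I} (hs2 : s * s = 1) (hsm : ∀ i j, M (s i) (s j) = M i j)
    (hs : ∀ σ : Equiv.Perm I, (∀ i j, M (σ i) (σ j) = M i j) → σ = 1 ∨ σ = s) {g : MulAut Y}
    (hg : ∀ x, IsRoot cs h x → ∀ u, g (e x u) = e (x ∘ s.symm) u)
    {a : I → ℤ} (ha : IsRoot cs h a) {α : MulAut Y} (hα : ∀ z ∈ X a, α z = z) :
    α ∈ innDiag cs h e ∨ α * g ∈ innDiag cs h e := by
  obtain ⟨k, c, σ, γ, hσ, hγ, rfl⟩ := frame S hG1 hN hconn hA ha hα
  rcases hs σ hσ with rfl | rfl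
  · left
    have hγ' : γ ∈ diagSub cs h e := fun x hx => hγ x hx
    exact mul_mem (mul_mem (conj_mem k) (diagSub_le hγ')) (conj_mem c)
  · right
    have hγ' : γ * g ∈ diagSub cs h e := by
      intro x hx
      have hx' : IsRoot cs h (x ∘ σ.symm) := by
        obtain ⟨w, i, rfl⟩ := hx
        rw [← rep_hat hσ (hA σ hσ), sr_comp]
        exact ⟨_, _, rfl⟩
      obtain ⟨c, hc⟩ := hγ _ hx'
      refine ⟨c, fun u => ?_⟩
      rw [MulAut.mul_apply, hg x hx, hc]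
      have e1 : (x ∘ σ.symm) ∘ σ.symm = x := by
        funext i
        show x (σ.symm (σ.symm i)) = x i
        have h1 : σ.symm (σ.symm i) = i := by
          rw [Equiv.symm_apply_eq, Equiv.symm_apply_eq]
          exact (DFunLike.congr_fun hs2 i).symm
        rw [h1]
      rw [e1]
    have e1 : MulAut.conj k * γ * MulAut.conj c * g = MulAut.conj k * (γ * g) * (g⁻¹ * MulAut.conj c * g) := by group
    have e2 : g⁻¹ * MulAut.conj c * g = MulAut.conj (g⁻¹ c) := by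
      ext y
      simp only [MulAut.mul_apply, MulAut.conj_apply, map_mul, map_inv, MulAut.inv_apply_self]
    rw [e1, e2]
    exact mul_mem (mul_mem (conj_mem k) (diagSub_le hγ')) (conj_mem _)

/-- an automorphism fixing the root elements of the simple roots, multiplying the root groups by scalars, is trivial -/
theorem diag_eq_one [Finite W] {R : RGD cs h 2 T n X} (S : Sys R e)
    (hG1 : RGD.Sup X {x | IsRoot cs h x} = ⊤) {d : MulAut Y} (hd : d ∈ diagSub cs h e)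
    (h1 : ∀ i u, d (e (sr i) u) = e (sr i) u) : d = 1 := by
  have key : ∀ {δ : MulAut Y}, δ ∈ diagSub cs h e → ∀ x, IsRoot cs h x → ∀ y, y ∈ X x → δ y ∈ X x := by
    intro δ hδ x hx y hy
    obtain ⟨u, rfl⟩ := (S.mem_X x hx y).1 hy
    obtain ⟨c, hc⟩ := hδ x hx
    rw [hc]
    exact S.mem hx _
  have hle : ∀ {δ : MulAut Y}, δ ∈ diagSub cs h e → ∀ Ω : Set (I → ℤ), (∀ x ∈ Ω, IsRoot cs h x) →
      ∀ y, y ∈ RGD.Sup X Ω → δ y ∈ RGD.Sup X Ω := by
    intro δ hδ Ω hΩ y hy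
    have h2 : RGD.Sup X Ω ≤ (RGD.Sup X Ω).comap δ.toMonoidHom :=
      RGD.Sup_le fun z hz y hy => RGD.le_Sup hz (key hδ z (hΩ z hz) y hy)
    exact h2 hy
  have hfix : ∀ Ω : Set (I → ℤ), (∀ x ∈ Ω, IsRoot cs h x) → Fix d (RGD.Sup X Ω) := by
    intro Ω hΩ y
    constructor
    · intro hy
      have := hle (inv_mem hd) Ω hΩ _ hy
      rwa [MulAut.inv_apply_self] at this
    · exact hle hd Ω hΩ y
  refine eq_one_of_fix R hG1 (hfix _ fun x hx => hx.1) (hfix _ fun x hx => hx.1) fun i y hy => ?_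
  obtain ⟨u, rfl⟩ := (S.mem_X _ (isRoot_sr cs h i) y).1 hy
  exact h1 i u

theorem conj_mul_pow' (k : Y) (d : MulAut Y) (m : ℕ) : ∃ k' : Y, (MulAut.conj k * d) ^ m = MulAut.conj k' * d ^ m := by
  induction m with
  | zero => exact ⟨1, by simp⟩
  | succ m ih =>
    obtain ⟨k', hk'⟩ := ih
    refine ⟨k' * (d ^ m) k, ?_⟩
    rw [pow_succ, hk', pow_succ]
    ext y
    simp only [MulAut.mul_apply, MulAut.conj_apply, map_mul, map_inv, mul_inv_rev, mul_assoc]

/-- **The `m`-th power of an inner-diagonal automorphism is inner.** -/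
theorem cube [Finite W] {R : RGD cs h 2 T n X} (S : Sys R e)
    (hG1 : RGD.Sup X {x | IsRoot cs h x} = ⊤) {m : ℕ}
    (htor : ∀ c : I → Kˣ, ∃ t ∈ T, ∀ i u, t * e (sr i) u * t⁻¹ = e (sr i) ((c i : K) ^ m * u))
    {δ : MulAut Y} (hδ : δ ∈ innDiag cs h e) : ∃ k : Y, δ ^ m = MulAut.conj k := by
  obtain ⟨k, d, hd, rfl⟩ := mem_innDiag.1 hδ
  obtain ⟨k', hk'⟩ := conj_mul_pow' k d m
  choose c hc using fun i => hd (sr i) (isRoot_sr cs h i)
  obtain ⟨t, ht, het⟩ := htor c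
  have hdm : ∀ i j u, (d ^ j) (e (sr i) u) = e (sr i) ((c i : K) ^ j * u) := by
    intro i j
    induction j with
    | zero => intro u; rw [pow_zero, pow_zero, one_mul]; rfl
    | succ j ih => intro u; rw [pow_succ, MulAut.mul_apply, hc, ih, pow_succ, mul_assoc]
  have htd : MulAut.conj t⁻¹ ∈ diagSub cs h e := by
    intro x hx
    obtain ⟨χ, hχ⟩ := S.chi t⁻¹ (inv_mem ht)
    exact ⟨_, fun u => hχ x hx u⟩
  have h1 : MulAut.conj t⁻¹ * d ^ m = 1 := by
    refine diag_eq_one S hG1 (mul_mem htd (pow_mem hd m)) fun i u => ?_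
    rw [MulAut.mul_apply, hdm, ← het, MulAut.conj_apply]
    group
  refine ⟨k' * t, ?_⟩
  have h2 : d ^ m = MulAut.conj t := by
    rw [map_inv] at h1
    exact (inv_mul_eq_one.1 h1).symm
  rw [hk', h2, map_mul]

/-! ### the graph automorphism -/

/-- the graph automorphism on all root groups -/
theorem graph_root [Finite W] (D : Data cs h e) {s : Equiv.Perm I} (hsm : ∀ i j, M (s i) (s j) = M i j)
    (hA : ∀ i j, A (s i) (s j) = A i j) {g : MulAut Y} (h1 : ∀ i u, g (e (sr i) u) = e (sr (s i)) u)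
    (h2 : ∀ i u, g (e (-sr i) u) = e (-sr (s i)) u) {x : I → ℤ} (hx : IsRoot cs h x) (u : K) :
    g (e x u) = e (x ∘ s.symm) u := by
  obtain ⟨w, i, rfl⟩ := hx
  have hn : ∀ j, g (nel e (sr j)) = nel e (sr (s j)) := by
    intro j
    rw [nel_def, nel_def, map_mul, map_mul, h1, h2]
  obtain ⟨ω, rfl⟩ := cs.wordProd_surjective w
  induction ω with
  | nil => rw [wordProd_nil, map_one, Module.End.one_apply, h1, sr_comp]
  | cons j ω ih =>
    have hr : IsRoot cs h (rep cs h (cs.wordProd ω) (sr i)) := ⟨_, _, rfl⟩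
    have hr' : IsRoot cs h (rep cs h (cs.wordProd ω) (sr i) ∘ s.symm) := by
      rw [← rep_hat hsm hA, sr_comp]
      exact ⟨_, _, rfl⟩
    rw [wordProd_cons, rep_mul_apply, ← D.refl j _ hr, map_mul, map_mul, map_inv, ih, hn, D.refl (s j) _ hr']
    congr 1
    rw [← rep_hat hsm hA (cs.simple j), hat_simple]

theorem graph_sq [Finite W] {R : RGD cs h p T n X} (S : Sys R e)
    (hG1 : RGD.Sup X {x | IsRoot cs h x} = ⊤) {s : Equiv.Perm I} (hs2 : s * s = 1)
    (hsm : ∀ i j, M (s i) (s j) = M i j)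
    (hA : ∀ i j, A (s i) (s j) = A i j) {g : MulAut Y}
    (hg : ∀ x, IsRoot cs h x → ∀ u, g (e x u) = e (x ∘ s.symm) u) : g * g = 1 := by
  have h1 : RGD.Sup X {x | IsRoot cs h x} ≤ (g * g).toMonoidHom.eqLocus (MonoidHom.id Y) := by
    refine RGD.Sup_le fun x hx y hy => ?_
    obtain ⟨u, rfl⟩ := (S.mem_X x hx y).1 hy
    have hx' : IsRoot cs h (x ∘ s.symm) := by
      obtain ⟨w, i, rfl⟩ := hx
      rw [← rep_hat hsm hA, sr_comp]
      exact ⟨_, _, rfl⟩
    show g (g (e x u)) = e x u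
    rw [hg x hx, hg _ hx']
    have e1 : (x ∘ s.symm) ∘ s.symm = x := by
      funext i
      show x (s.symm (s.symm i)) = x i
      have h1 : s.symm (s.symm i) = i := by
        rw [Equiv.symm_apply_eq, Equiv.symm_apply_eq]
        exact (DFunLike.congr_fun hs2 i).symm
      rw [h1]
    rw [e1]
  rw [hG1, top_le_iff] at h1
  ext y
  have h2 : y ∈ (g * g).toMonoidHom.eqLocus (MonoidHom.id Y) := by rw [h1]; exact Subgroup.mem_top y
  exact h2

end Cfsg.Agent.H253.SK.Dich
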