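import Cfsg.Agent.H234.Rank2C
import Cfsg.Agent.H234.U3Fix
/-!
# Involutory automorphisms of groups of Lie type of small rank fix a nontrivial `p`-element (for S3010)

`exists_fix_two` : buildings of rank two; `psl_three`, `psp_four`, `psu_three` : the groups.
-/

set_option autoImplicit false
set_option linter.unusedSectionVars false

open scoped Pointwise

namespace Cfsg.Agent.H253.SK.FixTwo

/-! ### Rank two -/

section Bld

open Cfsg.Agent.Tits.Core Cfsg.Agent.Tits.Core.Bldg Cfsg.Agent.Tits.Exchange Cfsg.Agent.Tits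
open Cfsg.Agent.FixBN Cfsg.Agent.FixBN.Cox Cfsg.Agent.H234.CoxA Cfsg.Agent.H234.CoxB
open Cfsg.Agent.H234.CentA
open Cfsg.Agent.H234.CentB Cfsg.Agent.H234.CentC Cfsg.Agent.H234.CentD Cfsg.Agent.H234.CentE

variable {I : Type*} {M : CoxeterMatrix I} {W : Type*} [Group W] {cs : CoxeterSystem M W} {C : Type*}

variable {Δ : Bldg cs C} {G : Type*} [Group G] [MulAction G C] {p : ℕ} {t : Tw Δ G}
  [F : OppRes.Cox cs]

variable [Finite G] [Finite C] [Finite I] [hp : Fact p.Prime]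

/-- **Rank two**: some `p`-element `≠ 1` is fixed. -/
theorem exists_fix_bld (S : Sys Δ G p) (hp2 : p ≠ 2) (hth : Δ.Thick) [Nonempty C] {k0 j0 : I}
    (hne : k0 ≠ j0) (hI : ∀ i, i = k0 ∨ i = j0)
    (hncomm : cs.simple k0 * cs.simple j0 ≠ cs.simple j0 * cs.simple k0) :
    ∃ a : G, a ≠ 1 ∧ a ∈ t.cent ∧ ∃ n : ℕ, a ^ p ^ n = 1 := by
  by_contra hcon
  push Not at hcon
  have hone : ∀ A : Subgroup G, IsPGroup p A → ∀ a ∈ A, a ∈ t.cent → a = 1 := by
    intro A hA a ha hac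
    by_contra h1
    obtain ⟨n, hn⟩ := hA ⟨a, ha⟩
    exact hcon a h1 hac n (congrArg Subtype.val hn)
  have hc : HC t p := by
    intro A hA hAp
    have hb : A = ⊥ := by
      rw [Subgroup.eq_bot_iff_forall]
      intro a ha
      exact hone A hAp a ha (hA ha)
    subst hb
    infer_instance
  have hU : ∀ y : C, ∀ a ∈ S.U y, a ∈ t.cent → a = 1 := fun y => hone (S.U y) (S.isP y)
  have hUR : ∀ (T : Set I) (y : C), ∀ a ∈ S.UR (Δ.Res T y), a ∈ t.cent → a = 1 :=
    fun T y a ha hac => hU y a (ha y (Δ.self_mem_Res _ _)) hac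
  have hother : ∀ k, ∃ j, k ≠ j ∧ (∀ i, i = k ∨ i = j) ∧
      cs.simple k * cs.simple j ≠ cs.simple j * cs.simple k := by
    intro k
    rcases hI k with rfl | rfl
    · exact ⟨j0, hne, hI, hncomm⟩
    · exact ⟨k0, hne.symm, fun i => (hI i).symm, hncomm.symm⟩
  have hirr : Irr cs := by
    intro X hX hX1
    obtain ⟨a, ha⟩ := hX
    obtain ⟨j, hj, hIj, hnc⟩ := hother a
    refine ⟨a, ha, j, fun hjX => hX1 (Set.eq_univ_iff_forall.2 fun i => ?_), hnc.symm⟩
    rcases hIj i with rfl | rfl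
    · exact ha
    · exact hjX
  rcases positions hc S hp2 hth hirr hne with ⟨k, y, hk⟩ | ⟨J, k, y, hgd, hk, huniv⟩
  · obtain ⟨z, z', hzz, hz, hz'⟩ := hth y k
    obtain ⟨v, hv, hvz⟩ := S.exists_move (hz.trans hz'.symm)
    obtain ⟨a, ha, hac, hact⟩ := exists_act S hp2 hth hk.θ hv
    have h1 := hU y a ha hac
    have h2 := hact z (Δ.Pan_subset_Res (Set.mem_singleton k) y (Δ.mem_Pan_of_δ hz))
    rw [h1, one_smul, hvz] at h2
    exact hzz h2
  · obtain ⟨j, hj, hIj, hnc⟩ := hother k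
    obtain ⟨z, z', hzz, hz, hz'⟩ := hth y k
    have key : cs.length (cs.simple k * wJ cs J * cs.simple (t.σ k)) = cs.length (wJ cs J) + 2 := by
      by_cases hσ : t.σ k = k
      · have hJ : J = {j} := by
          ext i
          rw [Set.mem_singleton_iff]
          constructor
          · intro hi
            rcases hIj i with rfl | h
            · exact absurd hi hk
            · exact h
          · rintro rfl
            have h1 : i ∈ J ∪ {k, t.σ k} := by rw [huniv]; exact Set.mem_univ i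
            rcases h1 with h1 | h1 | h1
            · exact h1
            · exact absurd h1.symm hj
            · rw [Set.mem_singleton_iff, hσ] at h1
              exact absurd h1.symm hj
        subst hJ
        rw [hσ]
        refine len_two (F.wJ_mem _) hk hk ?_
        rw [wJ_singleton]
        exact hnc
      · have hk' : t.σ k ∉ J := fun h => hk (by have := hgd.1 _ h; rwa [t.σσ] at this)
        have hIk : ∀ i, i = k ∨ i = t.σ k := by
          intro i
          rcases hIj i with h | h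
          · exact Or.inl h
          · rcases hIj (t.σ k) with h' | h'
            · exact absurd h' hσ
            · exact Or.inr (h.trans h'.symm)
        have hJ : J = ∅ := by
          refine Set.eq_empty_iff_forall_notMem.2 fun i hi => ?_
          rcases hIk i with rfl | rfl
          · exact hk hi
          · exact hk' hi
        subst hJ
        refine len_two (F.wJ_mem ∅) (fun h => h) (fun h => h) ?_
        rw [wJ_empty, mul_one, one_mul]
        exact fun h => hσ (F.inj h).symm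
    obtain ⟨a, ha, hac, haz, -⟩ := exists_cent_root (t := t) S hp2 hth hgd hk hz hz' key
      (X := ∅) (fun c m h => h.elim) (fun c m h => h.elim)
    have h1 := hUR J y a ha hac
    rw [h1, one_smul] at haz
    exact hzz haz

end Bld

/-! ### Groups with a root group datum of rank two -/

/-- every automorphism of order at most two fixes a `p`-element `≠ 1` -/
def Fixes (p : ℕ) (K : Type*) [Group K] : Prop :=
  ∀ τ : K ≃* K, (∀ g, τ (τ g) = g) → ∃ a : K, a ≠ 1 ∧ τ a = a ∧ ∃ n : ℕ, a ^ p ^ n = 1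

theorem Fixes.of_equiv {p : ℕ} {K L : Type*} [Group K] [Group L] (e : K ≃* L) (h : Fixes p K) : Fixes p L := by
  intro τ hτ
  obtain ⟨a, h1, h2, n, h3⟩ := h ((e.trans τ).trans e.symm) (fun g => by simp [hτ])
  refine ⟨e a, ?_, ?_, n, ?_⟩
  · rw [Ne, EmbeddingLike.map_eq_one_iff]
    exact h1
  · simp only [MulEquiv.trans_apply] at h2
    have h4 := congrArg e h2
    rwa [MulEquiv.apply_symm_apply] at h4
  · rw [← map_pow, h3, map_one]

section Rgd

open Cfsg
open CoxeterSystem Cfsg.Agent.ChevalleyStructure.CoxeterGeom Cfsg.Agent.Tits.Roots Cfsg.Agent.Tits.Core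
  Cfsg.Agent.Tits.Core.Bldg
  Cfsg.Agent.Tits.RootComb Cfsg.Agent.Nodes.Comb Cfsg.Agent.Nodes.Reps Cfsg.Agent.Nodes.BNOf Cfsg.Agent.Nodes.BNOf.RGD
  Cfsg.Agent.Schreier.BNSch Cfsg.Agent.FixBN Cfsg.Agent.Tits.OfBN Cfsg.Agent.FixBN.OfBN
open Cfsg.Agent.H234.CentA Cfsg.Agent.H234.CentC Cfsg.Agent.H234.CentE Cfsg.Agent.H234.CentH

variable {K : Type*} [Group K] [Finite K] [IsSimpleGroup K] {p : ℕ} [hp : Fact p.Prime]
  {M : CoxeterMatrix (Fin 2)} {A : Fin 2 → Fin 2 → ℤ} {h : IsCartan M A} {T : Subgroup K} {n : Fin 2 → K}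
  {X : (Fin 2 → ℤ) → Subgroup K} [Finite M.Group]

/-- **Rank two.** -/
theorem fixes_two (hp2 : p ≠ 2) (R : RGD M.toCoxeterSystem h p T n X)
    (hX : Nodes.RGDLib.G1 M.toCoxeterSystem h X = ⊤) (hM : M 0 1 ≠ 2) : Fixes p K := by
  intro τ hτ
  have hgen : RGD.B M.toCoxeterSystem h T X ⊔ NN M.toCoxeterSystem R.nsys = ⊤ := by
    rw [eq_top_iff, ← hX]
    exact Nodes.RGDLib.rgd_G1_le R
  have hne : (R.bnPair hgen).S.Nonempty := ⟨n 0, _, rfl⟩
  have hS := SplitRGD.split_of_rgd Fact.out R hgen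
    (Cfsg.Agent.Tits.OfBN.normalCore_eq_bot (R.bnPair hgen) hne)
  obtain ⟨hN, cs', hcs⟩ := Omega.ML.Ex.Typ.bnType R hgen
  obtain ⟨e, heq⟩ : ∃ e, e = Equiv.ofInjective n R.n_injective := ⟨_, rfl⟩
  have hcs' : ∀ i, cs'.simple i = QuotientGroup.mk
      (⟨(e i : K), (R.bnPair hgen).subset (e i).2⟩ : (R.bnPair hgen).N) := by
    rw [heq]; exact hcs
  obtain ⟨t, ht⟩ := TwOfBN.exists_tw hS e cs' hcs' τ hτ
  have hord : ∀ a b, orderOf (cs'.simple a * cs'.simple b) = M a b :=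
    fun a b => LieRecognition.CoxForm.orderOf_eq cs' a b
  have hth := thick (R.bnPair hgen) e cs' hcs'
  have hnc : cs'.simple 0 * cs'.simple 1 ≠ cs'.simple 1 * cs'.simple 0 := by
    intro hcomm
    have h2 := M.off_diagonal 0 1 (by decide)
    have h3 : (cs'.simple 0 * cs'.simple 1) ^ 2 = 1 := by
      rw [pow_two]
      calc cs'.simple 0 * cs'.simple 1 * (cs'.simple 0 * cs'.simple 1)
          = cs'.simple 0 * (cs'.simple 1 * cs'.simple 0) * cs'.simple 1 := by group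
        _ = cs'.simple 0 * (cs'.simple 0 * cs'.simple 1) * cs'.simple 1 := by rw [← hcomm]
        _ = 1 := by
          rw [← mul_assoc, cs'.simple_mul_simple_self, one_mul, cs'.simple_mul_simple_self]
    have h4 := orderOf_dvd_of_pow_eq_one h3
    rw [hord] at h4
    have h5 := Nat.le_of_dvd (by norm_num) h4
    have h6 : M 0 1 ≠ 0 := by
      intro h0
      rw [h0] at h4
      exact absurd (Nat.eq_zero_of_zero_dvd h4) (by norm_num)
    omega
  obtain ⟨a, h1, h2, h3⟩ := exists_fix_bld (t := t) (sys e cs' hcs' hS) hp2 hth (k0 := (0 : Fin 2)) (j0 := 1)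
    (by decide) (fun i => by omega) hnc
  refine ⟨a, h1, ?_, h3⟩
  rw [← ht]
  exact h2

end Rgd

/-! ### `PSL₃` and `PSp₄` -/

section PSL

open Cfsg.Agent.LieRecognition.BNCox (cA)
open Cfsg Cfsg.Agent Matrix

theorem psl_three {F : Type*} [Field F] [Finite F] {p : ℕ} [Fact p.Prime] [CharP F p] (hp2 : p ≠ 2)
    [IsSimpleGroup (Matrix.ProjectiveSpecialLinearGroup (Fin 3) F)] :
    Fixes p (Matrix.ProjectiveSpecialLinearGroup (Fin 3) F) := by
  have hfin : Finite (cA 2).Group := Nodes.RootsA.finite_W (cA 2).toCoxeterSystem (Nodes.RootsA.isCartan 2)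
  have hfin2 : Finite (Matrix.ProjectiveSpecialLinearGroup (Fin 3) F) := Quotient.finite _
  exact fixes_two hp2 (Nodes.RGDTypeA.rgd_psl (n := 2) (F := F) (p := p) (cA 2).toCoxeterSystem
    (Nodes.RootsA.isCartan 2))
    (Nodes.RGDTypeA.G1_psl_eq_top _ _) (by decide)

end PSL

section Sp

open Cfsg Cfsg.Agent
open Cfsg.Agent.Nodes Cfsg.Agent.Nodes.TypeC Cfsg.Agent.Nodes.WittModel Cfsg.Agent.Nodes.WittInst
  Cfsg.Agent.Nodes.WittAll Cfsg.Agent.Nodes.WittU
open Cfsg.Agent.TitsThree Cfsg.Agent.TitsThree.Siegel Cfsg.Agent.TitsThree.SiegelGen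
  Cfsg.Agent.TitsThree.WittFrame Cfsg.Agent.TitsThree.WBridge Cfsg.Agent.TitsThree.WittWeyl
  Cfsg.Agent.TitsThree.FrameCN
open Cfsg.Agent.FixBN.WittNodeB

theorem psp_four {F : Type*} [Field F] [Finite F] {p : ℕ} [Fact p.Prime] [CharP F p] (hp2 : p ≠ 2)
    [IsSimpleGroup (PSp 2 F)] : Fixes p (PSp 2 F) := by
  have hfin : Finite (CoxeterMatrix.B 2).Group := finite_W (CoxeterMatrix.B 2).toCoxeterSystem
  have hfin2 : Finite (PSp 2 F) := Quotient.finite _
  exact fixes_two hp2 (rgdC_model (KInstSp.model 2 F) (AmbT.of_amb amb_Sp p)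
    (p0 := SpIdent.adm 1) one_ne_zero _) (WittModel.G1_eq_top _ (by norm_num) _) (by decide)

end Sp

/-! ### `PSU₃` -/

section U3

open Cfsg.Agent.FixBN Cfsg.Agent.FixBN.U3Model Cfsg.Agent.FixBN.U3Core Cfsg.Agent.FixBN.RankOneU3
  Cfsg.Agent.FixBN.UNode
open Cfsg Cfsg.Agent.LieExceptional.BNPairCore Cfsg.Agent.Tits.Core Cfsg.Agent.Tits.Core.Bldg Cfsg.Agent.Tits.OfBN
  Cfsg.Agent.Schreier.BNSch Cfsg.Agent.FixBN.OfBN

/-- **Rank one.** -/
theorem fixes_node {K : Type*} [Group K] {P : Cfsg.BNPair K} {U V : Subgroup K} {F : Type*} [Field F] [Finite F]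
    {σ : F →+* F} [Inv2 σ] [hN : ((P.B ⊓ P.N).subgroupOf P.N).Normal] {p : ℕ} [Fact p.Prime] [CharP F p] [Finite K]
    (hp2 : p ≠ 2) (S : Split P p U)
    {I : Type*} {M : CoxeterMatrix I} (e : I ≃ P.S) (cs : CoxeterSystem M (WP P))
    (hcs : ∀ i, cs.simple i = QuotientGroup.mk (⟨(e i : K), P.subset (e i).2⟩ : P.N)) (i : I) (hI1 : ∀ j, j = i)
    (Nd : Node P U (e i : K) V) (N : UNode P U (e i : K) V σ) (hF : UF σ)
    (hσ : ∃ c : F, c ≠ 0 ∧ c + σ c = 0) (hx : ∃ x : Pt σ, x.a ≠ 0) : Fixes p K := by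
  intro τ hτ
  by_contra hcon
  push Not at hcon
  obtain ⟨t, ht⟩ := TwOfBN.exists_tw S e cs hcs τ hτ
  obtain ⟨c, hcc⟩ := H234.U3Fix.exists_fixed S e cs hcs i hI1 Nd N hF t
  obtain ⟨g, rfl⟩ := QuotientGroup.mk_surjective c
  have hstab : ∀ u, u ∈ UU P U (QuotientGroup.mk g) → τ u ∈ UU P U (QuotientGroup.mk g) := by
    intro u hu
    have h1 : t.τ u ∈ UU P U (t.θ (QuotientGroup.mk g)) := (sys e cs hcs S).τ_mem_U t hu
    rwa [hcc, ht] at h1
  have hmem : ∀ a, g * N.x a * g⁻¹ ∈ UU P U (QuotientGroup.mk g) := by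
    intro a
    rw [mem_UU S]
    have h1 : g⁻¹ * (g * N.x a * g⁻¹) * g = N.x a := by group
    rw [h1]
    exact N.mem a
  have hinj : ∀ a, N.x a = 1 → a = 1 := fun a h => N.ne _ (by rw [h]; exact one_mem _)
  have hisp : IsPGroup p (UU P U (QuotientGroup.mk g)) := (sys e cs hcs S).isP _
  have hodd : Odd (Nat.card (UU P U (QuotientGroup.mk g))) := by
    obtain ⟨m, hm⟩ := IsPGroup.iff_card.1 hisp
    rw [hm]
    exact ((Fact.out : p.Prime).odd_of_ne_two hp2).pow
  obtain ⟨-, h1⟩ := ThinGrp.inv_of_fixed τ hτ (UU P U (QuotientGroup.mk g)) ⊥ bot_le (fun v _ n hn => by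
      rw [Subgroup.mem_bot] at hn ⊢; rw [hn, mul_one, mul_inv_cancel]) hstab
    (fun n hn => by rw [Subgroup.mem_bot] at hn ⊢; rw [hn, map_one]) hodd
    (fun v hv hv' => by
      rw [Subgroup.mem_bot]
      by_contra hne
      obtain ⟨n, hn⟩ := hisp ⟨v, hv⟩
      exact hcon v hne hv' n (congrArg Subtype.val hn))
  obtain ⟨c, hc0, hc⟩ := hσ
  obtain ⟨x, hx⟩ := hx
  obtain ⟨w, hw⟩ := H234.PtArg.exists_comm (H234.PtArg.two_ne (F := F) hp2) hx hc
  have h2 := h1 _ (hmem x) _ (hmem w)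
  rw [Subgroup.mem_bot] at h2
  have h3 : N.x (x * w * x⁻¹ * w⁻¹) = 1 := by
    rw [N.mul, N.mul, N.mul, N.x_inv, N.x_inv]
    have h4 : (g * N.x x * g⁻¹ * (g * N.x w * g⁻¹))⁻¹ * (g * N.x w * g⁻¹ * (g * N.x x * g⁻¹)) =
        g * ((N.x x * N.x w)⁻¹ * (N.x w * N.x x)) * g⁻¹ := by group
    rw [h4, mul_inv_eq_one, mul_eq_left, inv_mul_eq_one] at h2
    rw [h2]
    group
  rw [hinj _ h3] at hw
  exact hc0 (hw.symm.trans (one_b))

section Unitary

open CoxeterSystem Cfsg.Agent.ChevalleyStructure.CoxeterGeom Cfsg.Agent.Tits.Roots Cfsg.Agent.Nodes.TypeC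
open Cfsg.Agent.Nodes.Comb Cfsg.Agent.Nodes.Reps Cfsg.Agent.Nodes.WittRoot Cfsg.Agent.Nodes.BNOf
open Cfsg.Agent.Nodes.WittRGD Cfsg.Agent.Nodes.RGDLib Cfsg.Agent.Nodes.WittModel Cfsg.Agent.Nodes.WittU
open Cfsg.Agent.TitsThree Cfsg.Agent.TitsThree.Siegel Cfsg.Agent.TitsThree.SiegelGen
  Cfsg.Agent.TitsThree.WittFrame Cfsg.Agent.TitsThree.WBridge Cfsg.Agent.TitsThree.WittWeyl
  Cfsg.Agent.TitsThree.FrameCN Cfsg.Agent.TitsThree.KSideU Cfsg.Agent.TitsThree.KSideUDesc
open Cfsg.Agent.FixBN.WittNodeA Cfsg.Agent.FixBN.WittNodeB Cfsg.Agent.FixBN.WittNodeC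
open Cfsg.Agent.LieClassical.HermBasic Cfsg.Agent.LieClassical.HermGen
open Cfsg.Agent.H234.Fam3 Cfsg.Agent.H234.Rank2C

theorem psu_three {F : Type} [Field F] [Fintype F] {q : ℕ} (hF : Fintype.card F = q ^ 2) {p : ℕ} [Fact p.Prime]
    [CharP F p] (hp2 : p ≠ 2) [IsSimpleGroup (PSU 3 F q)] : Fixes p (PSU 3 F q) := by
  have hodd : Odd p := (Fact.out : p.Prime).odd_of_ne_two hp2
  have hfin : Finite (PSU 3 F q) := Quotient.finite _
  have hfinW : Finite (CoxeterMatrix.B 1).Group := finite_W (CoxeterMatrix.B 1).toCoxeterSystem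
  obtain ⟨W, d, hd, hW⟩ := exists_wframe_odd hF (show 3 = 2 * 1 + 1 by norm_num)
  have h2 := two_ne_zero_of_odd (F := F) hodd
  obtain ⟨a0, ha0, hn⟩ := exists_norm_eq_ne hF (c := (-2 : F)) (by
    rw [neg_pow_q hF, show (2 : F) = 1 + 1 by norm_num, add_pow_q hF, one_pow]) (neg_ne_zero.2 h2)
  let σ : F →+* F := ((conj hF : F ≃+* F) : F →+* F)
  have hσ : ∀ x, σ x = x ^ q := fun x => rfl
  have hI : U3Model.Inv2 σ := ⟨fun x => pow_q_pow_q hF x⟩
  have hUF : UF σ := UNode.uf_of_card hF (odd_q hF hodd) σ hσ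
  have hd0 : d ∈ W.V0 := by rw [hW]; exact Submodule.mem_span_singleton_self d
  let p0 : (toFrame W).Adm := ⟨a0 • d, 1, W.V0.smul_mem _ hd0, by
    rw [ok_iff, herm_smul_left, herm_smul_right, hd, mul_one, hn, one_pow]; ring⟩
  have hp0 : p0.c ≠ 0 := one_ne_zero
  let M := KInstU.model hF (show 3 ≤ 3 by norm_num) W
  have hA : Amb (toFrame W) M.I := amb_U hF W
  have R := Nodes.WittModel.rgd M hA hodd hp0 (CoxeterMatrix.B 1).toCoxeterSystem
  have hgen := NodeRGD.gen_of_top R (Nodes.WittModel.G1_eq_top M (by norm_num) (CoxeterMatrix.B 1).toCoxeterSystem)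
  have hi : ¬ ((0 : Fin 1) : ℕ) + 1 < 1 := by norm_num
  -- the parametrisation
  let f : Pt σ → (toFrame W).Adm := fun x => ⟨x.a • d, x.b, W.V0.smul_mem _ hd0, by
    rw [ok_iff, herm_smul_left, herm_smul_right, hd, mul_one]
    have := x.h
    rw [hσ, hσ] at this
    linear_combination this⟩
  have hfm : ∀ x y, f (x * y) = f x * f y := by
    intro x y
    apply Frame.Adm.ext
    · show (x.a + y.a) • d = x.a • d + y.a • d
      rw [add_smul]
    · show x.b + y.b - σ x.a * y.a = x.b + y.b - (1 : F)⁻¹ * hermForm 3 F q (y.a • d) (x.a • d)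
      rw [herm_smul_left, herm_smul_right, hd, hσ, inv_one]
      ring
  have hfs : Function.Surjective f := by
    rintro ⟨w, c, hw, hok'⟩
    obtain ⟨a, rfl⟩ : ∃ a : F, a • d = w := by
      rw [hW] at hw
      exact Submodule.mem_span_singleton.1 hw
    rw [ok_iff, herm_smul_left, herm_smul_right, hd, mul_one] at hok'
    exact ⟨⟨a, c, by rw [hσ, hσ]; linear_combination hok'⟩, rfl⟩
  have hJ : ∀ a, a ≠ 1 → Jm (toFrame W) p0 hp0 (f a) = f (J a) := by
    intro x hx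
    have hb := U3Model.b_ne_zero hx
    apply Frame.Adm.ext
    · rw [Jm_w]
      show ((1 : F)⁻¹ * (1 : F) ^ q * x.b⁻¹) • (x.a • d + ((1 : F)⁻¹ * (1 : F)⁻¹ *
        hermForm 3 F q (x.a • d) (a0 • d)) • (a0 • d)) = (U3Model.J x).a • d
      rw [U3Model.J_a hx, herm_smul_left, herm_smul_right, hd, smul_smul, ← add_smul, smul_smul, one_pow]
      congr 1
      have h3 : x.a * (a0 ^ q * 1) * a0 = -2 * x.a := by linear_combination x.a * hn
      field_simp
      linear_combination h3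
    · rw [Jm_c (toFrame W) p0 hp0 _ hb]
      show (1 : F)⁻¹ * (1 * (1 : F) ^ q) * x.b⁻¹ = (U3Model.J x).b
      rw [U3Model.J_b hx, one_pow]
      field_simp
  have N := WittNodeA.uNode R hgen 0 (fun a => M.Z (0, true) (f a))
    (fun a b => by rw [hfm, Z_mul']) (fun a => (mem_X_last hi).2 ⟨_, rfl⟩)
    (fun u hu => by
      obtain ⟨q', rfl⟩ := (mem_X_last hi).1 hu
      obtain ⟨a, rfl⟩ := hfs q'
      exact ⟨a, rfl⟩)
    (fun a ha => by
      have h1 := Z_eq_one M ha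
      by_contra hne
      exact U3Model.b_ne_zero hne (congrArg (fun z => z.c) h1))
    (fun a ha => by
      have h1 := inv_Z hA hp0 R hi (q := f a) (U3Model.b_ne_zero ha)
      rw [hJ a ha] at h1
      exact h1)
  have hne : (R.bnPair hgen).S.Nonempty := ⟨_, (0 : Fin 1), rfl⟩
  have hS := SplitRGD.split_of_rgd Fact.out R hgen
    (Cfsg.Agent.Tits.OfBN.normalCore_eq_bot (R.bnPair hgen) hne)
  obtain ⟨hN, cs', hcs⟩ := Omega.ML.Ex.Typ.bnType R hgen
  obtain ⟨c0, hc0, hc⟩ := exists_trace_zero_ne hF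
  refine fixes_node hp2 hS (Equiv.ofInjective _ R.n_injective) cs' hcs 0 (fun j => Subsingleton.elim _ _)
    (NodeRGD.node R hgen 0) N hUF ⟨c0, hc0, ?_⟩ ⟨⟨a0, 1, ?_⟩, ha0⟩
  · rw [hσ]
    linear_combination hc
  · rw [hσ, hσ, one_pow]
    linear_combination hn

end Unitary

end U3

end Cfsg.Agent.H253.SK.FixTwo
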